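import Mathlib
import Cfsg.Agent.Lib.FusionCert.Basic
import Cfsg.Agent.Lib.Fusion.SimpleGroup
import Cfsg.Agent.Lib.PLocal.FamilyControl
import Cfsg.Agent.Lib.Transfer.PGroupNormal

/-!
Certificates showing that a `2`-subgroup of the symmetric group on the 24 points has only inner
automorphisms of odd order induced by its normalizer, and has no proper strongly closed subgroup
inside a given permutation group.
-/

set_option autoImplicit false

open scoped Classical Pointwise

namespace Cfsg.Lib.FusionCert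

open Cfsg Cfsg.Lib.Golay Cfsg.Lib.Fusion

attribute [local irreducible] mulN one encodeL inv8 pow8

/-- Orbit of the point `i` as a mask. -/
def orbMask (S : Grp) (i : ℕ) : ℕ := S.tree.keys.foldr (fun x m => m ||| 2 ^ digit x i) 0

/-- The orbit sizes of the points. -/
def orbOK (S : Grp) (tbl : List ℕ) : Bool :=
  (List.range 24).all fun i => pop (orbMask S i) == tbl.getD i 0

/-- Conjugation invariant of an element: squares, fourth powers and fixed points in the orbits of
each size. -/
def sigOf (tbl : List ℕ) (x : ℕ) : List ℕ :=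
  let y := mulN x x
  let z := mulN y y
  (if y == one then 1 else 0) :: (if z == one then 1 else 0) ::
    [1, 2, 4, 8, 16].map fun s => (List.range 24).countP fun i => digit x i == i && tbl.getD i 0 == s

/-- How a subgroup is characterized. -/
inductive Op
  | top
  | bot
  | sig (pat : List ℕ) (words : List (List ℕ))
  | cen (a b c : ℕ)
  | inf (a b : ℕ)

/-- The product of a list of packed permutations. -/
def prodL : List ℕ → ℕ
  | [] => one
  | g :: gs => mulN g (prodL gs)

/-- `x` commutes with all generators of `B` modulo `C`. -/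
def cenB (B C : Grp) (x : ℕ) : Bool :=
  B.gens.all fun y => C.tree.mem (mulN (mulN x y) (mulN (inv8 x) (inv8 y)))

/-- The check of one characterization against the earlier subgroups. -/
def opOK (S : Grp) (tbl : List ℕ) (prev : List Grp) (H : Grp) : Op → Bool
  | .top => H.gens == S.gens
  | .bot => H.gens == []
  | .sig pat ws =>
      S.tree.keys.all (fun x => !(sigOf tbl x == pat) || H.tree.mem x) &&
        ws.all (fun w => w.all fun x => S.tree.mem x && sigOf tbl x == pat) &&
        (ws.map prodL == H.gens)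
  | .cen a b c =>
      match prev[a]?, prev[b]?, prev[c]? with
      | some A, some B, some C => H.tree.keys.all (fun x => A.tree.mem x && cenB B C x) &&
          A.tree.keys.all (fun x => !(cenB B C x) || H.tree.mem x)
      | _, _, _ => false
  | .inf a b =>
      match prev[a]?, prev[b]? with
      | some A, some B => H.tree.keys.all (fun x => A.tree.mem x && B.tree.mem x) &&
          A.tree.keys.all (fun x => !(B.tree.mem x) || H.tree.mem x)
      | _, _ => false

/-- The check of a list of characterized subgroups. -/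
def progOK (S : Grp) (tbl : List ℕ) : List Grp → List (Grp × Op) → Bool
  | _, [] => true
  | prev, (H, o) :: rest =>
      H.wf && H.tree.keys.all (fun x => S.tree.mem x) && opOK S tbl prev H o &&
        progOK S tbl (prev ++ [H]) rest

/-- The check of a chain with steps of index two. -/
def stepsOK : List (Grp × ℕ) → Bool
  | [] => false
  | [(C, _)] => C.tree.keys == [one]
  | (C, t) :: (D, u) :: rest =>
      C.tree.mem t && C.tree.keys.all (fun x => D.tree.mem x || D.tree.mem (mulN (inv8 t) x)) &&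
        stepsOK ((D, u) :: rest)

/-- Steps of a derivation inside a strongly closed subgroup. -/
inductive Step
  | conj (j c y : ℕ)
  | mul (i j : ℕ)

/-- The check of a derivation. -/
def derOK (S : Grp) (inK : ℕ → Bool) : List ℕ → List Step → Bool
  | acc, [] => S.gens.all fun g => acc.contains g
  | acc, .conj j c y :: rest =>
      inK c && ok c && S.tree.mem y && (mulN c (acc.getD j one) == mulN y c) &&
        derOK S inK (acc ++ [y]) rest
  | acc, .mul i j :: rest =>
      derOK S inK (acc ++ [mulN (acc.getD i one) (acc.getD j one)]) rest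

/-- All the data for one Sylow subgroup. -/
structure Data where
  S : Grp
  tbl : List ℕ
  z : ℕ
  prog : List (Grp × Op)
  chain : List (ℕ × ℕ)
  steps : List Step

/-- The check of the data. -/
def Data.ok (d : Data) (inK : ℕ → Bool) : Bool :=
  d.S.wf && strictB d.S.tree.keys && orbOK d.S d.tbl && progOK d.S d.tbl [] d.prog &&
    stepsOK (d.chain.map fun e => ((d.prog.getD e.1 (d.S, Op.top)).1, e.2)) &&
    (match d.chain with
      | e :: _ => (d.prog.getD e.1 (d.S, Op.top)).1.gens == d.S.gens
      | [] => false) &&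
    d.S.gens.all inK &&
    d.S.tree.keys.all (fun x => x == one || x == d.z ||
      !(d.S.gens.all fun g => mulN g x == mulN x g)) &&
    derOK d.S inK [d.z] d.steps

/-- Invariance under the normalizer. -/
def Invariant (S H : Grp) : Prop :=
  ∀ σ ∈ Subgroup.normalizer (S.grp : Set (Equiv.Perm GolayPt)), ∀ x ∈ H.grp, σ * x * σ⁻¹ ∈ H.grp

/-- Fixed points of `x` in orbits of size `s`. -/
noncomputable def fixIn (S : Grp) (s : ℕ) (x : Equiv.Perm GolayPt) : ℕ :=
  (Finset.univ.filter fun q => x q = q ∧ (MulAction.orbit S.grp q).ncard = s).card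

theorem testBit_orMask (L : List ℕ) (f : ℕ → ℕ) (j : ℕ) :
    (L.foldr (fun x m => m ||| 2 ^ f x) 0).testBit j = true ↔ ∃ x ∈ L, f x = j := by
  induction L with
  | nil => simp
  | cons a L ih =>
    simp only [List.foldr_cons, Nat.testBit_or, Bool.or_eq_true, ih, Nat.testBit_two_pow,
      decide_eq_true_eq, List.mem_cons, exists_eq_or_imp]
    exact or_comm

theorem ncard_orbit {S : Grp} (hS : S.wf = true) {tbl : List ℕ} (h : orbOK S tbl = true)
    (q : GolayPt) : (MulAction.orbit S.grp q).ncard = tbl.getD (idx q) 0 := by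
  simp only [orbOK, List.all_eq_true, List.mem_range, beq_iff_eq] at h
  rw [← h _ (idx_lt q), ← card_toSet, ← Set.ncard_coe_finset]
  congr 1
  ext r
  simp only [Finset.mem_coe, mem_toSet, orbMask, testBit_orMask]
  constructor
  · rintro ⟨⟨σ, hσ⟩, rfl⟩
    obtain ⟨x, hx, rfl⟩ := (Grp.mem_grp_iff hS).1 hσ
    exact ⟨x, hx, (idx_perm (Grp.key_facts hS hx).1 q).symm⟩
  · rintro ⟨x, hx, he⟩
    refine ⟨⟨perm x, (Grp.key_facts hS hx).2.2.2.1⟩, idx_inj ?_⟩
    show idx (perm x q) = idx r
    rw [idx_perm (Grp.key_facts hS hx).1, he]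

theorem fixIn_eq {S : Grp} (hS : S.wf = true) {tbl : List ℕ} (h : orbOK S tbl = true) (s : ℕ)
    {x : ℕ} (hx : ok x = true) :
    fixIn S s (perm x) = (List.range 24).countP fun i => digit x i == i && tbl.getD i 0 == s := by
  rw [List.countP_eq_length_filter, ← List.toFinset_card_of_nodup (List.nodup_range.filter _),
    fixIn]
  refine Finset.card_bij (fun q _ => idx q) (fun q hq => ?_) (fun a _ b _ e => idx_inj e)
    (fun i hi => ?_)
  · simp only [Finset.mem_filter, Finset.mem_univ, true_and] at hq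
    simp only [List.mem_toFinset, List.mem_filter, List.mem_range, Bool.and_eq_true, beq_iff_eq]
    refine ⟨idx_lt q, ?_, ?_⟩
    · rw [← idx_perm hx, hq.1]
    · rw [← ncard_orbit hS h, hq.2]
  · simp only [List.mem_toFinset, List.mem_filter, List.mem_range, Bool.and_eq_true,
      beq_iff_eq] at hi
    refine ⟨pt i, ?_, idx_pt hi.1⟩
    simp only [Finset.mem_filter, Finset.mem_univ, true_and]
    refine ⟨idx_inj ?_, ?_⟩
    · rw [idx_perm hx, idx_pt hi.1]; exact hi.2.1
    · rw [ncard_orbit hS h, idx_pt hi.1]; exact hi.2.2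

theorem fixIn_conj {S : Grp} {σ : Equiv.Perm GolayPt}
    (hσ : σ ∈ Subgroup.normalizer (S.grp : Set (Equiv.Perm GolayPt))) (s : ℕ)
    (x : Equiv.Perm GolayPt) : fixIn S s (σ * x * σ⁻¹) = fixIn S s x := by
  have horb : ∀ q, MulAction.orbit S.grp (σ q) = σ '' MulAction.orbit S.grp q := by
    intro q
    ext r
    constructor
    · rintro ⟨⟨τ, hτ⟩, rfl⟩
      have h1 := (Subgroup.mem_normalizer_iff.1 (inv_mem hσ) τ).1 hτ
      exact ⟨_, ⟨⟨_, h1⟩, rfl⟩, by simp [Subgroup.smul_def, Equiv.Perm.smul_def]⟩
    · rintro ⟨_, ⟨⟨τ, hτ⟩, rfl⟩, rfl⟩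
      exact ⟨⟨σ * τ * σ⁻¹, (Subgroup.mem_normalizer_iff.1 hσ τ).1 hτ⟩,
        by simp [Subgroup.smul_def, Equiv.Perm.smul_def]⟩
  unfold fixIn
  refine (Finset.card_bij (fun q _ => σ q) (fun q hq => ?_) (fun a _ b _ e => σ.injective e)
    (fun r hr => ⟨σ⁻¹ r, ?_, by simp⟩)).symm
  · simp only [Finset.mem_filter, Finset.mem_univ, true_and] at hq ⊢
    refine ⟨by simp [hq.1], ?_⟩
    rw [horb, Set.ncard_image_of_injective _ σ.injective, hq.2]
  · simp only [Finset.mem_filter, Finset.mem_univ, true_and] at hr ⊢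
    refine ⟨σ.injective (by simpa using hr.1), ?_⟩
    rw [← Set.ncard_image_of_injective _ σ.injective, ← horb]
    simpa using hr.2

theorem sigOf_conj {S : Grp} (hS : S.wf = true) {tbl : List ℕ} (h : orbOK S tbl = true)
    {σ : Equiv.Perm GolayPt} (hσ : σ ∈ Subgroup.normalizer (S.grp : Set (Equiv.Perm GolayPt)))
    {x y : ℕ} (hx : ok x = true) (hy : ok y = true) (e : perm y = σ * perm x * σ⁻¹) :
    sigOf tbl y = sigOf tbl x := by
  have hpow : ∀ n : ℕ, perm y ^ n = 1 ↔ perm x ^ n = 1 := fun n => by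
    rw [e, conj_pow, mul_inv_eq_one, mul_eq_left]
  have h2 : ∀ {u : ℕ}, ok u = true → (mulN u u = one ↔ perm u ^ 2 = 1) := fun {u} hu => by
    rw [pow_two, ← perm_mul hu hu, ← perm_one]
    exact ⟨fun h => by rw [h], fun h => perm_inj (ok_mul hu hu) ok_one h⟩
  have h4 : ∀ {u : ℕ}, ok u = true →
      (mulN (mulN u u) (mulN u u) = one ↔ perm u ^ 4 = 1) := fun {u} hu => by
    rw [h2 (ok_mul hu hu), perm_mul hu hu, ← pow_two, ← pow_mul]
  simp only [sigOf]
  congr 1
  · simp only [beq_iff_eq, h2 hx, h2 hy, hpow]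
  congr 1
  · simp only [beq_iff_eq, h4 hx, h4 hy, hpow]
  refine List.map_congr_left fun s _ => ?_
  rw [← fixIn_eq hS h s hx, ← fixIn_eq hS h s hy, e, fixIn_conj hσ]

theorem prodL_mem {K : Subgroup (Equiv.Perm GolayPt)} : ∀ {w : List ℕ},
    (∀ x ∈ w, ok x = true ∧ perm x ∈ K) → ok (prodL w) = true ∧ perm (prodL w) ∈ K
  | [], _ => ⟨ok_one, by rw [prodL, perm_one]; exact one_mem _⟩
  | a :: w, h => by
    obtain ⟨h1, h2⟩ := prodL_mem (w := w) fun x hx => h x (List.mem_cons_of_mem a hx)
    obtain ⟨h3, h4⟩ := h a List.mem_cons_self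
    exact ⟨ok_mul h3 h1, by rw [prodL, perm_mul h3 h1]; exact mul_mem h4 h2⟩

theorem grp_le_of_keys {H K : Grp} (hH : H.wf = true) (hK : K.wf = true)
    (h : ∀ x ∈ H.tree.keys, K.tree.mem x = true) : H.grp ≤ K.grp := fun σ hσ => by
  obtain ⟨x, hx, rfl⟩ := (Grp.mem_grp_iff hH).1 hσ
  exact Grp.mem_grp_of_mem hK (h x hx)

set_option maxHeartbeats 1000000 in
theorem prog_sound {S : Grp} (hS : S.wf = true) {tbl : List ℕ} (ht : orbOK S tbl = true) :
    ∀ (prog : List (Grp × Op)) (prev : List Grp),
      (∀ H ∈ prev, H.wf = true ∧ H.grp ≤ S.grp ∧ Invariant S H) →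
        progOK S tbl prev prog = true →
          ∀ e ∈ prog, e.1.wf = true ∧ e.1.grp ≤ S.grp ∧ Invariant S e.1 := by
  intro prog
  induction prog with
  | nil => simp
  | cons e rest ih =>
    obtain ⟨H, o⟩ := e
    intro prev hprev hok
    simp only [progOK, Bool.and_eq_true, List.all_eq_true] at hok
    obtain ⟨⟨⟨hH, hsub⟩, hop⟩, hrest⟩ := hok
    have hle : H.grp ≤ S.grp := grp_le_of_keys hH hS hsub
    have hget : ∀ {i : ℕ} {A : Grp}, prev[i]? = some A →
        A.wf = true ∧ A.grp ≤ S.grp ∧ Invariant S A := fun h =>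
      hprev _ (List.mem_of_getElem? h)
    have hinv : Invariant S H := by
      intro σ hσ
      cases o with
      | top =>
        simp only [opOK, beq_iff_eq] at hop
        intro x hx
        have e : H.grp = S.grp := by simp only [Grp.grp, hop]
        rw [e] at hx ⊢
        exact (Subgroup.mem_normalizer_iff.1 hσ x).1 hx
      | bot =>
        simp only [opOK, beq_iff_eq] at hop
        intro x hx
        have e : H.grp = ⊥ := by
          rw [Grp.grp, hop, Subgroup.closure_eq_bot_iff]
          rintro _ ⟨g, hg, -⟩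
          simp at hg
        rw [e, Subgroup.mem_bot] at hx ⊢
        simp [hx]
      | sig pat ws =>
        simp only [opOK, Bool.and_eq_true, List.all_eq_true, beq_iff_eq, Bool.or_eq_true,
          Bool.not_eq_true', beq_eq_false_iff_ne] at hop
        obtain ⟨⟨h1, h2⟩, h3⟩ := hop
        set K : Subgroup (Equiv.Perm GolayPt) := H.grp.comap (MulAut.conj σ).toMonoidHom
        suffices h : H.grp ≤ K from fun x hx => h hx
        rw [Grp.grp, Subgroup.closure_le]
        rintro _ ⟨g, hg, rfl⟩
        rw [← h3, List.mem_map] at hg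
        obtain ⟨w, hw, rfl⟩ := hg
        refine (prodL_mem fun x hx => ?_).2
        obtain ⟨hxS, hxp⟩ := h2 w hw x hx
        have hxk := Tr.mem_sound hxS
        obtain ⟨hxo, -, -, hxg, -⟩ := Grp.key_facts hS hxk
        refine ⟨hxo, ?_⟩
        obtain ⟨y, hy, he⟩ :=
          (Grp.mem_grp_iff hS).1 ((Subgroup.mem_normalizer_iff.1 hσ _).1 hxg)
        show σ * perm x * σ⁻¹ ∈ H.grp
        rw [← he]
        refine Grp.mem_grp_of_mem hH ((h1 y hy).resolve_left fun hne => hne ?_)
        rw [sigOf_conj hS ht hσ hxo (Grp.key_facts hS hy).1 he, hxp]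
      | cen a b c =>
        simp only [opOK] at hop
        split at hop
        · rename_i A B C hA hB hC
          obtain ⟨hAw, -, hAi⟩ := hget hA
          obtain ⟨hBw, hBS, hBi⟩ := hget hB
          obtain ⟨hCw, -, hCi⟩ := hget hC
          simp only [Bool.and_eq_true, List.all_eq_true, Bool.or_eq_true, Bool.not_eq_true'] at hop
          obtain ⟨h1, h2⟩ := hop
          have hcen : ∀ {x : ℕ}, x ∈ A.tree.keys →
              (cenB B C x = true ↔ ∀ v ∈ B.grp, perm x * v * (perm x)⁻¹ * v⁻¹ ∈ C.grp) := by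
            intro x hx
            obtain ⟨hxo, -, hx8, -, -⟩ := Grp.key_facts hAw hx
            obtain ⟨hxi, hxe⟩ := inv8_spec hxo hx8
            have key : ∀ y ∈ B.gens,
                (C.tree.mem (mulN (mulN x y) (mulN (inv8 x) (inv8 y))) = true ↔
                  perm x * perm y * (perm x)⁻¹ * (perm y)⁻¹ ∈ C.grp) := by
              intro y hy
              have hyo := Grp.gens_ok hBw hy
              have hyk : y ∈ B.tree.keys := Tr.mem_sound (by
                have hBw' := hBw
                simp only [Grp.wf, Bool.and_eq_true, List.all_eq_true] at hBw'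
                exact (hBw'.1.1 y hy).2)
              obtain ⟨hyi, hye⟩ := inv8_spec hyo (Grp.key_facts hBw hyk).2.2.1
              have hok2 : ok (mulN (mulN x y) (mulN (inv8 x) (inv8 y))) = true :=
                ok_mul (ok_mul hxo hyo) (ok_mul hxi hyi)
              have heq : perm (mulN (mulN x y) (mulN (inv8 x) (inv8 y))) =
                  perm x * perm y * (perm x)⁻¹ * (perm y)⁻¹ := by
                rw [perm_mul (ok_mul hxo hyo) (ok_mul hxi hyi), perm_mul hxo hyo,
                  perm_mul hxi hyi, hxe, hye]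
                group
              exact ⟨fun h => heq ▸ Grp.mem_grp_of_mem hCw h,
                fun h => Grp.mem_of_perm_mem hCw hok2 (heq.symm ▸ h)⟩
            simp only [cenB, List.all_eq_true]
            refine ⟨fun h v hv => ?_, fun h y hy => (key y hy).2 (h _ (Subgroup.subset_closure
              ⟨y, hy, rfl⟩))⟩
            have hvN : ∀ u ∈ B.grp, ∀ w ∈ C.grp, u * w * u⁻¹ ∈ C.grp := fun u hu w hw =>
              hCi u (Subgroup.le_normalizer (hBS hu)) w hw
            rw [Grp.grp] at hv
            induction hv using Subgroup.closure_induction with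
            | mem u hu =>
              obtain ⟨y, hy, rfl⟩ := hu
              exact (key y hy).1 (h y hy)
            | one => simp
            | mul u u' hu hu' h3 h4 =>
              have e : perm x * (u * u') * (perm x)⁻¹ * (u * u')⁻¹ =
                  (perm x * u * (perm x)⁻¹ * u⁻¹) *
                    (u * (perm x * u' * (perm x)⁻¹ * u'⁻¹) * u⁻¹) := by group
              rw [e]
              exact mul_mem h3 (hvN u hu _ h4)
            | inv u hu h3 =>
              have e : perm x * u⁻¹ * (perm x)⁻¹ * u⁻¹⁻¹ =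
                  u⁻¹ * (perm x * u * (perm x)⁻¹ * u⁻¹)⁻¹ * u⁻¹⁻¹ := by group
              rw [e]
              exact hvN _ (inv_mem hu) _ (inv_mem h3)
          intro v hv
          obtain ⟨x, hx, rfl⟩ := (Grp.mem_grp_iff hH).1 hv
          obtain ⟨hxA, hxc⟩ := h1 x hx
          have hxA' := Tr.mem_sound hxA
          obtain ⟨y, hy, he⟩ := (Grp.mem_grp_iff hAw).1 (hAi σ hσ _ (Grp.mem_grp_of_mem hAw hxA))
          rw [← he]
          refine Grp.mem_grp_of_mem hH ((h2 y hy).resolve_left ?_)
          rw [Bool.not_eq_false]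
          refine (hcen hy).2 fun u hu => ?_
          have hu' := hBi σ⁻¹ (inv_mem hσ) u hu
          have h3 := hCi σ hσ _ ((hcen hxA').1 hxc _ hu')
          have e : σ * (perm x * (σ⁻¹ * u * σ⁻¹⁻¹) * (perm x)⁻¹ * (σ⁻¹ * u * σ⁻¹⁻¹)⁻¹) * σ⁻¹ =
              perm y * u * (perm y)⁻¹ * u⁻¹ := by rw [he]; group
          rwa [e] at h3
        · exact absurd hop (by simp)
      | inf a b =>
        simp only [opOK] at hop
        split at hop
        · rename_i A B hA hB
          obtain ⟨hAw, -, hAi⟩ := hget hA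
          obtain ⟨hBw, -, hBi⟩ := hget hB
          simp only [Bool.and_eq_true, List.all_eq_true, Bool.or_eq_true, Bool.not_eq_true'] at hop
          obtain ⟨h1, h2⟩ := hop
          intro v hv
          obtain ⟨x, hx, rfl⟩ := (Grp.mem_grp_iff hH).1 hv
          obtain ⟨y, hy, he⟩ := (Grp.mem_grp_iff hAw).1
            (hAi σ hσ _ (Grp.mem_grp_of_mem hAw (h1 x hx).1))
          rw [← he]
          refine Grp.mem_grp_of_mem hH ((h2 y hy).resolve_left ?_)
          rw [Bool.not_eq_false]
          exact Grp.mem_of_perm_mem hBw (Grp.key_facts hAw hy).1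
            (he ▸ hBi σ hσ _ (Grp.mem_grp_of_mem hBw (h1 x hx).2))
        · exact absurd hop (by simp)
    intro e he
    rcases List.mem_cons.1 he with rfl | he
    · exact ⟨hH, hle, hinv⟩
    · refine ih (prev ++ [H]) (fun K hK => ?_) hrest e he
      rcases List.mem_append.1 hK with hK | hK
      · exact hprev K hK
      · rw [List.mem_singleton] at hK
        exact hK ▸ ⟨hH, hle, hinv⟩

theorem chain_sound {S : Grp} {σ : Equiv.Perm GolayPt}
    (hσ : σ ∈ Subgroup.normalizer (S.grp : Set (Equiv.Perm GolayPt)))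
    (hodd : (orderOf σ).Coprime 2) (hSp : IsPGroup 2 S.grp) :
    ∀ l : List (Grp × ℕ), (∀ e ∈ l, e.1.wf = true ∧ e.1.grp ≤ S.grp ∧ Invariant S e.1) →
      stepsOK l = true → ∀ e, l.head? = some e → ∀ x ∈ e.1.grp, σ * x * σ⁻¹ = x := by
  haveI : Fact (Nat.Prime 2) := ⟨Nat.prime_two⟩
  intro l
  induction l with
  | nil => simp [stepsOK]
  | cons a rest ih =>
    obtain ⟨C, t⟩ := a
    intro hl hok e he
    simp only [List.head?_cons, Option.some.injEq] at he
    subst he
    obtain ⟨hC, hCS, hCi⟩ := hl (C, t) List.mem_cons_self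
    cases rest with
    | nil =>
      simp only [stepsOK, beq_iff_eq] at hok
      intro x hx
      obtain ⟨y, hy, rfl⟩ := (Grp.mem_grp_iff hC).1 hx
      rw [hok, List.mem_singleton] at hy
      subst hy
      simp [perm_one]
    | cons b rest' =>
      obtain ⟨D, u⟩ := b
      simp only [stepsOK, Bool.and_eq_true, List.all_eq_true, Bool.or_eq_true] at hok
      obtain ⟨⟨ht, hsplit⟩, hrest⟩ := hok
      obtain ⟨hD, hDS, hDi⟩ := hl (D, u) (List.mem_cons_of_mem _ List.mem_cons_self)
      have hfix := ih (fun e he => hl e (List.mem_cons_of_mem _ he)) hrest (D, u) rfl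
      have htk := Tr.mem_sound ht
      obtain ⟨hto, -, ht8, htC, -⟩ := Grp.key_facts hC htk
      obtain ⟨hti, hte⟩ := inv8_spec hto ht8
      have hsplit' : ∀ v ∈ C.grp, v ∈ D.grp ∨ (perm t)⁻¹ * v ∈ D.grp := by
        intro v hv
        obtain ⟨y, hy, rfl⟩ := (Grp.mem_grp_iff hC).1 hv
        rcases hsplit y hy with h | h
        · exact Or.inl (Grp.mem_grp_of_mem hD h)
        · right
          have h' := Grp.mem_grp_of_mem hD h
          rwa [perm_mul hti (Grp.key_facts hC hy).1, hte] at h'
      intro x hx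
      have hd : σ * x * σ⁻¹ * x⁻¹ ∈ D.grp := by
        rcases hsplit' x hx with h | h
        · exact mul_mem (hDi σ hσ x h) (inv_mem h)
        · by_cases hxD : x ∈ D.grp
          · exact mul_mem (hDi σ hσ x hxD) (inv_mem hxD)
          · have h' : (perm t)⁻¹ * (σ * x * σ⁻¹) ∈ D.grp := by
              refine (hsplit' _ (hCi σ hσ x hx)).resolve_left fun h2 => hxD ?_
              have h3 := hDi σ⁻¹ (inv_mem hσ) _ h2
              rwa [show σ⁻¹ * (σ * x * σ⁻¹) * σ⁻¹⁻¹ = x by group] at h3
            have h3 := hDi (perm t) (Subgroup.le_normalizer (hCS htC)) _ (mul_mem h' (inv_mem h))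
            rwa [show perm t * ((perm t)⁻¹ * (σ * x * σ⁻¹) * ((perm t)⁻¹ * x)⁻¹) * (perm t)⁻¹ =
              σ * x * σ⁻¹ * x⁻¹ by group] at h3
      have h1 := PLocal.pow_conj_eq_of_displacement (c := σ) (v := x)
        (d := σ * x * σ⁻¹ * x⁻¹) (by group) (hfix _ hd) (orderOf σ)
      rw [pow_orderOf_eq_one, one_mul, inv_one, mul_one] at h1
      exact mul_inv_eq_one.1 (PLocal.eq_one_of_pow_eq_one_of_coprime hSp (hDS hd) hodd
        (mul_eq_right.1 h1.symm))

theorem der_sound {S : Grp} (hS : S.wf = true) {K : Subgroup (Equiv.Perm GolayPt)}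
    {inK : ℕ → Bool} (hK : ∀ c, inK c = true → perm c ∈ K) {U : Subgroup (Equiv.Perm GolayPt)}
    (hU : ∀ x ∈ U, ∀ g ∈ K, g * x * g⁻¹ ∈ S.grp → g * x * g⁻¹ ∈ U) :
    ∀ (steps : List Step) (acc : List ℕ), (∀ x ∈ acc, ok x = true ∧ perm x ∈ U) →
      derOK S inK acc steps = true → S.grp ≤ U := by
  intro steps
  induction steps with
  | nil =>
    intro acc hacc h
    simp only [derOK, List.all_eq_true] at h
    rw [Grp.grp, Subgroup.closure_le]
    rintro _ ⟨g, hg, rfl⟩
    exact (hacc g (List.contains_iff_mem.1 (h g hg))).2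
  | cons a rest ih =>
    intro acc hacc h
    have hget : ∀ j, ok (acc.getD j one) = true ∧ perm (acc.getD j one) ∈ U := by
      intro j
      rw [List.getD_eq_getElem?_getD]
      cases hj : acc[j]? with
      | none => exact ⟨ok_one, by rw [Option.getD_none, perm_one]; exact one_mem _⟩
      | some v => exact hacc v (List.mem_of_getElem? hj)
    cases a with
    | conj j c y =>
      simp only [derOK, Bool.and_eq_true, beq_iff_eq] at h
      obtain ⟨⟨⟨⟨hc, hco⟩, hy⟩, he⟩, hr⟩ := h
      refine ih (acc ++ [y]) (fun x hx => ?_) hr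
      rcases List.mem_append.1 hx with hx | hx
      · exact hacc x hx
      rw [List.mem_singleton] at hx
      subst hx
      obtain ⟨hxo, hxu⟩ := hget j
      have hxS := Tr.mem_sound hy
      have hyo := (Grp.key_facts hS hxS).1
      refine ⟨hyo, ?_⟩
      have e := congrArg perm he
      rw [perm_mul hco hxo, perm_mul hyo hco] at e
      have e' : perm c * perm (acc.getD j one) * (perm c)⁻¹ = perm x := by
        rw [e, mul_inv_cancel_right]
      have hmem := hU _ hxu _ (hK c hc) (e'.symm ▸ Grp.mem_grp_of_mem hS hy)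
      rwa [e'] at hmem
    | mul i j =>
      simp only [derOK] at h
      refine ih _ (fun x hx => ?_) h
      rcases List.mem_append.1 hx with hx | hx
      · exact hacc x hx
      rw [List.mem_singleton] at hx
      subst hx
      exact ⟨ok_mul (hget i).1 (hget j).1, by
        rw [perm_mul (hget i).1 (hget j).1]; exact mul_mem (hget i).2 (hget j).2⟩

set_option maxHeartbeats 1000000 in
/-- A checked certificate gives simplicity of the fusion system. -/
theorem isSimple_of_data (d : Data) (inK : ℕ → Bool) (K : Subgroup (Equiv.Perm GolayPt))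
    (hK : ∀ c, inK c = true → perm c ∈ K) (hok : d.ok inK = true) {a n : ℕ}
    (hlen : d.S.tree.keys.length = 2 ^ a) (ha : a ≠ 0) (hn : ¬ 2 ∣ n)
    (hcard : Nat.card K = 2 ^ a * n) (S : Sylow 2 K) :
    (groupFusionSystem (S : Subgroup K)).IsSimple 2 := by
  haveI : Fact (Nat.Prime 2) := ⟨Nat.prime_two⟩
  simp only [Data.ok, Bool.and_eq_true, List.all_eq_true] at hok
  obtain ⟨⟨⟨⟨⟨⟨⟨⟨hS, hstr⟩, horb⟩, hprog⟩, hsteps⟩, hhead⟩, hgK⟩, hZ⟩, hder⟩ := hok
  set H := d.S.grp with hH
  have hHcard : Nat.card H = 2 ^ a := by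
    rw [hH, Grp.card_grp hS (nodup_of_strictB hstr), hlen]
  have hHp : IsPGroup 2 H := IsPGroup.of_card hHcard
  have hHK : H ≤ K := by
    rw [hH, Grp.grp, Subgroup.closure_le]
    rintro _ ⟨g, hg, rfl⟩
    exact hK g (hgK g hg)
  have hS0c : Nat.card (H.subgroupOf K) = 2 ^ a := by
    rw [Nat.card_congr (Subgroup.subgroupOfEquivOfLe hHK).toEquiv, hHcard]
  have hS0p : IsPGroup 2 (H.subgroupOf K) := IsPGroup.of_card hS0c
  have hidx : ¬ 2 ∣ (H.subgroupOf K).index := by
    have h1 := (H.subgroupOf K).card_mul_index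
    rw [hS0c, hcard] at h1
    rwa [Nat.eq_of_mul_eq_mul_left (by positivity) h1]
  refine isSimple_group_of_one (hS0p.toSylow hidx) ?_ ?_ ?_ S
  · intro h
    change H.subgroupOf K = ⊥ at h
    rw [h, Subgroup.card_bot] at hS0c
    exact absurd hS0c (Nat.one_lt_two_pow ha).ne
  · refine innerNormalizer_of_centralizes _ fun g hg hgo x hx => Subtype.ext ?_
    have hgN : (g : Equiv.Perm GolayPt) ∈ Subgroup.normalizer (H : Set (Equiv.Perm GolayPt)) := by
      rw [Subgroup.mem_normalizer_iff]
      refine fun y => ⟨fun hy => (Subgroup.mem_normalizer_iff.1 hg ⟨y, hHK hy⟩).1 hy, fun hy => ?_⟩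
      have hyK : y ∈ K := by
        have h1 := K.mul_mem (K.mul_mem (K.inv_mem g.2) (hHK hy)) g.2
        rwa [show (g : Equiv.Perm GolayPt)⁻¹ * (g * y * (g : Equiv.Perm GolayPt)⁻¹) * g = y
          by group] at h1
      exact (Subgroup.mem_normalizer_iff.1 hg ⟨y, hyK⟩).2 hy
    cases hch : d.chain with
    | nil => rw [hch] at hhead; simp at hhead
    | cons e es =>
      rw [hch] at hhead hsteps
      simp only [beq_iff_eq] at hhead
      have hsound := prog_sound hS horb d.prog [] (by simp) hprog
      have hall : ∀ b : ℕ, (d.prog.getD b (d.S, Op.top)).1.wf = true ∧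
          (d.prog.getD b (d.S, Op.top)).1.grp ≤ d.S.grp ∧
          Invariant d.S (d.prog.getD b (d.S, Op.top)).1 := by
        intro b
        rw [List.getD_eq_getElem?_getD]
        cases hb : d.prog[b]? with
        | none => exact ⟨hS, le_rfl, fun σ hσ y hy => (Subgroup.mem_normalizer_iff.1 hσ y).1 hy⟩
        | some v => exact hsound v (List.mem_of_getElem? hb)
      refine chain_sound hgN (by rwa [Subgroup.orderOf_coe]) hHp _ (fun b hb => ?_) hsteps
        ((d.prog.getD e.1 (d.S, Op.top)).1, e.2) rfl _ ?_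
      · rw [List.mem_map] at hb
        obtain ⟨b', -, rfl⟩ := hb
        exact hall b'.1
      · show (x : Equiv.Perm GolayPt) ∈ (d.prog.getD e.1 (d.S, Op.top)).1.grp
        rw [Grp.grp, hhead]
        exact hx
  · intro T hT hclosed
    change T ≤ H.subgroupOf K at hT
    set U := T.map K.subtype with hU
    by_cases hT1 : T = ⊥
    · exact Or.inl hT1
    right
    have hUH : U ≤ H := by
      rintro _ ⟨y, hy, rfl⟩
      exact hT hy
    have hUc : ∀ x ∈ U, ∀ g ∈ K, g * x * g⁻¹ ∈ H → g * x * g⁻¹ ∈ U := by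
      rintro _ ⟨y, hy, rfl⟩ g hg hgy
      exact ⟨_, hclosed y hy ⟨g, hg⟩ hgy, rfl⟩
    have hUn : (U.subgroupOf H).Normal := by
      refine ⟨fun x hx g => ?_⟩
      exact hUc _ hx _ (hHK g.2) ((g * x * g⁻¹).2)
    have hne : U.subgroupOf H ≠ ⊥ := by
      intro h
      apply hT1
      rw [← Subgroup.map_eq_bot_iff_of_injective T K.subtype_injective, ← hU,
        ← Subgroup.map_subgroupOf_eq_of_le hUH, h, Subgroup.map_bot]
    have hmeet := Transfer.inf_center_ne_bot (p := 2) hHp (U.subgroupOf H) hne
    obtain ⟨⟨⟨v, hv⟩, hvm⟩, hv1⟩ := Subgroup.ne_bot_iff_exists_ne_one.1 hmeet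
    obtain ⟨hvU, hvZ⟩ := Subgroup.mem_inf.1 hvm
    obtain ⟨y, hy, hye⟩ := (Grp.mem_grp_iff hS).1 hv
    have hyo := (Grp.key_facts hS hy).1
    have hyz : y = d.z := by
      have h := hZ y hy
      simp only [Bool.or_eq_true, beq_iff_eq, Bool.not_eq_true', List.all_eq_false,
        Bool.not_eq_true, beq_eq_false_iff_ne] at h
      rcases h with (h | h) | ⟨g, hg, hne'⟩
      · have hv0 : v = 1 := by rw [← hye, h, perm_one]
        exact absurd (Subtype.ext (Subtype.ext hv0)) hv1
      · exact h
      · refine absurd (perm_inj (ok_mul (Grp.gens_ok hS hg) hyo)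
          (ok_mul hyo (Grp.gens_ok hS hg)) ?_) hne'
        rw [perm_mul (Grp.gens_ok hS hg) hyo, perm_mul hyo (Grp.gens_ok hS hg), hye]
        exact congrArg Subtype.val (Subgroup.mem_center_iff.1 hvZ
          ⟨perm g, Subgroup.subset_closure ⟨g, hg, rfl⟩⟩)
    have hfin : H ≤ U := der_sound hS hK hUc d.steps [d.z]
      (fun x hx => by
        rw [List.mem_singleton] at hx
        subst hx
        rw [← hyz]
        exact ⟨hyo, by rw [hye]; exact hvU⟩) hder
    refine le_antisymm hT fun x hx => ?_
    obtain ⟨w, hw, hwe⟩ := hfin hx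
    rwa [← Subtype.ext hwe]

end Cfsg.Lib.FusionCert
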