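import Cfsg.Agent.Lib.FusionCert.Cert

/-!
Piecewise checking of certificate data, so that each kernel computation stays small.
-/

set_option autoImplicit false

namespace Cfsg.Lib.FusionCert

/-- The check of one entry of the list of characterized subgroups. -/
def itemOK (S : Grp) (tbl : List ℕ) (prev : List Grp) (H : Grp) (o : Op) : Bool :=
  H.wf && H.tree.keys.all (fun x => S.tree.mem x) && opOK S tbl prev H o

theorem progOK_cons {S : Grp} {tbl : List ℕ} {prev : List Grp} {H : Grp} {o : Op}
    {rest : List (Grp × Op)} (h : itemOK S tbl prev H o = true)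
    (h' : progOK S tbl (prev ++ [H]) rest = true) :
    progOK S tbl prev ((H, o) :: rest) = true := by
  simp only [itemOK, Bool.and_eq_true] at h
  simp only [progOK, Bool.and_eq_true]
  exact ⟨h, h'⟩

/-- The check of the `i`-th entry. -/
def itemAt (S : Grp) (tbl : List ℕ) (L : List (Grp × Op)) (i : ℕ) : Bool :=
  match L[i]? with
  | some (H, o) => itemOK S tbl ((L.take i).map Prod.fst) H o
  | none => true

theorem progOK_of_items {S : Grp} {tbl : List ℕ} (L : List (Grp × Op)) {n : ℕ}
    (hn : L.length = n) (h : ∀ i < n, itemAt S tbl L i = true) : progOK S tbl [] L = true := by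
  subst hn
  suffices H : ∀ (rest done : List (Grp × Op)), done ++ rest = L →
      progOK S tbl (done.map Prod.fst) rest = true from H L [] rfl
  intro rest
  induction rest with
  | nil => intro done _; simp [progOK]
  | cons e rest ih =>
    intro done hd
    obtain ⟨H, o⟩ := e
    have hi := h done.length (by rw [← hd]; simp)
    simp only [itemAt, ← hd, List.getElem?_append_right (Nat.le_refl _), Nat.sub_self,
      List.getElem?_cons_zero, List.take_left] at hi
    refine progOK_cons hi ?_
    have := ih (done ++ [(H, o)]) (by simpa using hd)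
    simpa using this

/-- The check of the data from the separate checks. -/
theorem Data.ok_of_parts (d : Data) (inK : ℕ → Bool) (hw : d.S.wf = true)
    (hs : strictB d.S.tree.keys = true) (ho : orbOK d.S d.tbl = true)
    (hp : progOK d.S d.tbl [] d.prog = true)
    (hrest : (stepsOK (d.chain.map fun e => ((d.prog.getD e.1 (d.S, Op.top)).1, e.2)) &&
      (match d.chain with
        | e :: _ => (d.prog.getD e.1 (d.S, Op.top)).1.gens == d.S.gens
        | [] => false) &&
      d.S.gens.all inK &&
      d.S.tree.keys.all (fun x => x == one || x == d.z ||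
        !(d.S.gens.all fun g => mulN g x == mulN x g)) &&
      derOK d.S inK [d.z] d.steps) = true) :
    d.ok inK = true := by
  unfold Data.ok
  simp only [Bool.and_eq_true] at hrest ⊢
  obtain ⟨⟨⟨⟨h1, h2⟩, h3⟩, h4⟩, h5⟩ := hrest
  exact ⟨⟨⟨⟨⟨⟨⟨⟨hw, hs⟩, ho⟩, hp⟩, h1⟩, h2⟩, h3⟩, h4⟩, h5⟩

end Cfsg.Lib.FusionCert
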