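import Cfsg.Agent.Lib.FusionCert.DataM24
import Cfsg.Agent.Lib.FusionCert.Groups

/-! The central quotient of a Sylow 2-subgroup of `M₂₄` as a unitriangular model: data and kernel checks. -/

set_option autoImplicit false

namespace Cfsg.Lib.FusionCert.SylowM24

open Cfsg.Lib.FusionCert

set_option maxHeartbeats 1000000

/-- Multiplication of five by five unitriangular matrices over two elements modulo the corner, on nine bits. -/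
def qm (a b : ℕ) : ℕ :=
  a ^^^ b ^^^ (((a &&& (b >>> 1)) &&& 7) <<< 4) ^^^
    ((((a &&& (b >>> 5)) &&& 3) ^^^ (((a >>> 4) &&& (b >>> 2)) &&& 3)) <<< 7)
local instance : Std.Commutative (α := Bool) xor := ⟨Bool.xor_comm⟩
local instance : Std.Associative (α := Bool) xor := ⟨Bool.xor_assoc⟩
theorem testBit_three (i : ℕ) : (3 : ℕ).testBit i = decide (i < 2) := Nat.testBit_two_pow_sub_one 2 i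
theorem testBit_seven (i : ℕ) : (7 : ℕ).testBit i = decide (i < 3) := Nat.testBit_two_pow_sub_one 3 i
theorem qm_assoc (a b c : ℕ) : qm (qm a b) c = qm a (qm b c) := by
  refine Nat.eq_of_testBit_eq fun i => ?_
  by_cases h : i < 9
  · interval_cases i <;>
      (simp only [qm, Nat.testBit_xor, Nat.testBit_and, Nat.testBit_shiftRight, Nat.testBit_shiftLeft, testBit_three, testBit_seven,
          ge_iff_le, Nat.reduceLeDiff, Nat.reduceLT, Nat.reduceAdd, Nat.reduceSub, decide_true, decide_false, Bool.true_and,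
          Bool.false_and, Bool.and_true, Bool.and_false, Bool.xor_false, Bool.false_xor, le_refl, add_zero, zero_add]
       try (simp only [Bool.and_xor_distrib_left, Bool.and_xor_distrib_right, Bool.and_assoc])
       ac_rfl)
  · simp [qm, Nat.testBit_xor, Nat.testBit_and, Nat.testBit_shiftRight, Nat.testBit_shiftLeft, testBit_three, testBit_seven,
      show ¬ i - 4 < 3 by omega, show ¬ i - 7 < 2 by omega, Bool.xor_assoc]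
theorem qm_lt {a b : ℕ} (ha : a < 512) (hb : b < 512) : qm a b < 512 := by
  have h : ∀ x : ℕ, (x &&& 3) < 512 := fun x => lt_of_le_of_lt Nat.and_le_right (by norm_num)
  refine Nat.xor_lt_two_pow (n := 9) (Nat.xor_lt_two_pow (n := 9) (Nat.xor_lt_two_pow (n := 9) ha hb) ?_) ?_
  · rw [Nat.shiftLeft_eq]
    have := (Nat.and_le_right : (a &&& (b >>> 1)) &&& 7 ≤ 7)
    omega
  · rw [Nat.shiftLeft_eq]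
    have h1 : (((a &&& (b >>> 5)) &&& 3) ^^^ (((a >>> 4) &&& (b >>> 2)) &&& 3)) < 2 ^ 2 :=
      Nat.xor_lt_two_pow (lt_of_le_of_lt Nat.and_le_right (by norm_num)) (lt_of_le_of_lt Nat.and_le_right (by norm_num))
    omega
theorem qm_zero (a : ℕ) : qm 0 a = a := by simp [qm]

/-- The model group. -/
structure Q9 where
  val : Fin 512
deriving DecidableEq

/-- The model as nine bit numbers. -/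
def equivFin : Q9 ≃ Fin 512 := ⟨Q9.val, Q9.mk, fun _ => rfl, fun _ => rfl⟩

instance : Fintype Q9 := Fintype.ofEquiv (Fin 512) equivFin.symm

instance : Mul Q9 := ⟨fun x y => ⟨⟨qm x.val y.val, qm_lt x.val.2 y.val.2⟩⟩⟩

instance : One Q9 := ⟨⟨⟨0, by norm_num⟩⟩⟩

instance : Inv Q9 := ⟨fun x => x * (x * x) * ((x * x) * (x * x))⟩

theorem inv_left : ∀ x : Q9, x⁻¹ * x = 1 := by decide +kernel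

theorem val_mul (x y : Q9) : (x * y).val.val = qm x.val y.val := rfl

theorem ext9 {x y : Q9} (h : x.val.val = y.val.val) : x = y := by
  obtain ⟨x⟩ := x; obtain ⟨y⟩ := y; exact congrArg Q9.mk (Fin.ext h)

instance : Group Q9 := Group.ofLeftAxioms (fun x y z => ext9 (qm_assoc _ _ _)) (fun x => ext9 (qm_zero _)) inv_left

/-- The element with nine given bits. -/
def ofNat9 (n : ℕ) : Q9 := ⟨⟨n % 512, Nat.mod_lt _ (by norm_num)⟩⟩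

/-- Its number. -/
def toNat9 (x : Q9) : ℕ := x.val.val

theorem toNat9_spec (x : Q9) : toNat9 x < 512 ∧ ofNat9 (toNat9 x) = x :=
  ⟨x.val.2, ext9 (Nat.mod_eq_of_lt x.val.2)⟩

def imgs : List Q9 := [ofNat9 264, ofNat9 324, ofNat9 290, ofNat9 260, ofNat9 32, ofNat9 2, ofNat9 145, ofNat9 128, ofNat9 1, ofNat9 1]

/-- The image of a word in the generators. -/
def prodU : List Q9 → ℕ → Q9
  | [], _ => 1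
  | u :: us, w => if w % 2 = 1 then u * prodU us (w / 2) else prodU us (w / 2)

/-- The word of an element. -/
def wordOf : Tr → ℕ → ℕ
  | .nil, _ => 0
  | .node l k w r, x => if Nat.blt x k then wordOf l x else if Nat.blt k x then wordOf r x else w

/-- The model image of a packed element. -/
def code (x : ℕ) : Q9 := prodU imgs (wordOf DataM24.sylGrp.tree x)

theorem imgs_length : imgs.length = DataM24.sylGrp.gens.length := by decide +kernel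

theorem syl_wf : DataM24.sylGrp.wf = true := by decide +kernel

theorem syl_nodup : strictB DataM24.sylGrp.tree.keys = true := by decide +kernel

theorem syl_len : DataM24.sylGrp.tree.keys.length = 1024 := by decide +kernel

theorem syl_m24 : DataM24.sylGrp.gens.all inM24 = true := by decide +kernel

theorem code_one : code Cfsg.Lib.FusionCert.one = 1 := by decide +kernel

theorem code_step : (DataM24.sylGrp.tree.keys.all fun x =>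
    (DataM24.sylGrp.gens.zip imgs).all fun p => code (mulN p.1 x) == p.2 * code x) = true := by
  decide +kernel

theorem code_centre : (DataM24.sylGrp.tree.keys.all fun x =>
    (code x == 1) == (DataM24.sylGrp.gens.all fun g => mulN g x == mulN x g)) = true := by
  decide +kernel

theorem code_ker : (DataM24.sylGrp.tree.keys.filter fun x => code x == 1).length = 2 := by decide +kernel

/-- Words in the four superdiagonal generators. -/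
def words : List (List (Fin 4)) := [[], [0], [1], [1, 0], [2], [2, 0], [2, 1], [2, 1, 0], [3], [3, 0], [3, 1], [3, 1, 0], [3, 2], [3, 2, 0], [3, 2, 1], [3, 2, 1, 0], [1, 0, 1, 0], [1, 0, 1], [0, 1, 0], [0, 1], [2, 1, 0, 1, 0], [2, 1, 0, 1], [2, 0, 1, 0], [2, 0, 1], [3, 1, 0, 1, 0], [3, 1, 0, 1], [3, 0, 1, 0], [3, 0, 1], [3, 2, 1, 0, 1, 0], [3, 2, 1, 0, 1], [3, 2, 0, 1, 0], [3, 2, 0, 1], [2, 1, 2, 1], [2, 1, 2, 1, 0], [2, 1, 2], [2, 1, 2, 0], [1, 2, 1], [1, 2, 1, 0], [1, 2], [1, 2, 0], [3, 2, 1, 2, 1], [3, 2, 1, 2, 1, 0], [3, 2, 1, 2], [3, 2, 1, 2, 0], [3, 1, 2, 1], [3, 1, 2, 1, 0], [3, 1, 2], [3, 1, 2, 0], [2, 1, 2, 0, 1, 0], [2, 1, 2, 0, 1], [2, 1, 2, 1, 0, 1, 0], [2, 1, 2, 1, 0, 1], [1, 2, 0, 1, 0], [1, 2, 0, 1], [1, 2, 1, 0, 1, 0], [1, 2, 1, 0, 1], [3, 2, 1, 2, 0, 1, 0],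 [3, 2, 1, 2, 0, 1], [3, 2, 1, 2, 1, 0, 1, 0], [3, 2, 1, 2, 1, 0, 1], [3, 1, 2, 0, 1, 0], [3, 1, 2, 0, 1], [3, 1, 2, 1, 0, 1, 0], [3, 1, 2, 1, 0, 1], [3, 2, 3, 2], [3, 2, 3, 2, 0], [3, 2, 3, 2, 1], [3, 2, 3, 2, 1, 0], [3, 2, 3], [3, 2, 3, 0], [3, 2, 3, 1], [3, 2, 3, 1, 0], [2, 3, 2], [2, 3, 2, 0], [2, 3, 2, 1], [2, 3, 2, 1, 0], [2, 3], [2, 3, 0], [2, 3, 1], [2, 3, 1, 0], [3, 2, 3, 2, 1, 0, 1, 0], [3, 2, 3, 2, 1, 0, 1], [3, 2, 3, 2, 0, 1, 0], [3, 2, 3, 2, 0, 1], [3, 2, 3, 1, 0, 1, 0], [3, 2, 3, 1, 0, 1], [3, 2, 3, 0, 1, 0], [3, 2, 3, 0, 1], [2, 3, 2, 1, 0, 1, 0], [2, 3, 2, 1, 0, 1], [2, 3, 2, 0, 1, 0], [2, 3, 2, 0, 1], [2, 3, 1, 0, 1, 0], [2, 3, 1, 0, 1], [2, 3, 0, 1, 0], [2, 3, 0, 1], [3, 2, 3, 1, 2, 1], [3, 2, 3, 1, 2, 1, 0], [3, 2, 3, 1, 2], [3, 2, 3, 1, 2, 0], [3, 2, 3,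 2, 1, 2, 1], [3, 2, 3, 2, 1, 2, 1, 0], [3, 2, 3, 2, 1, 2], [3, 2, 3, 2, 1, 2, 0], [2, 3, 1, 2, 1], [2, 3, 1, 2, 1, 0], [2, 3, 1, 2], [2, 3, 1, 2, 0], [2, 3, 2, 1, 2, 1], [2, 3, 2, 1, 2, 1, 0], [2, 3, 2, 1, 2], [2, 3, 2, 1, 2, 0], [3, 2, 3, 1, 2, 0, 1, 0], [3, 2, 3, 1, 2, 0, 1], [3, 2, 3, 1, 2, 1, 0, 1, 0], [3, 2, 3, 1, 2, 1, 0, 1], [3, 2, 3, 2, 1, 2, 0, 1, 0], [3, 2, 3, 2, 1, 2, 0, 1], [3, 2, 3, 2, 1, 2, 1, 0, 1, 0], [3, 2, 3, 2, 1, 2, 1, 0, 1], [2, 3, 1, 2, 0, 1, 0], [2, 3, 1, 2, 0, 1], [2, 3, 1, 2, 1, 0, 1, 0], [2, 3, 1, 2, 1, 0, 1], [2, 3, 2, 1, 2, 0, 1, 0], [2, 3, 2, 1, 2, 0, 1], [2, 3, 2, 1, 2, 1, 0, 1, 0], [2, 3, 2, 1, 2, 1, 0, 1], [1, 2, 1, 0, 1, 2, 1, 0], [1, 2, 1, 0, 1, 2, 1], [2, 1, 0, 1, 2, 1, 0], [2, 1, 0, 1, 2, 1], [1, 0, 1, 2, 1, 0, 1], [1, 0, 1, 2, 1, 0, 1,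 0], [1, 0, 1, 2, 1, 0], [1, 0, 1, 2, 1], [3, 1, 2, 1, 0, 1, 2, 1, 0], [3, 1, 2, 1, 0, 1, 2, 1], [3, 2, 1, 0, 1, 2, 1, 0], [3, 2, 1, 0, 1, 2, 1], [3, 1, 0, 1, 2, 1, 0, 1], [3, 1, 0, 1, 2, 1, 0, 1, 0], [3, 1, 0, 1, 2, 1, 0], [3, 1, 0, 1, 2, 1], [2, 1, 0, 1, 2, 0], [2, 1, 0, 1, 2], [1, 2, 1, 0, 1, 2, 0], [1, 2, 1, 0, 1, 2], [1, 0, 1, 2, 0], [1, 0, 1, 2], [1, 0, 1, 2, 0, 1], [1, 0, 1, 2, 0, 1, 0], [3, 2, 1, 0, 1, 2, 0], [3, 2, 1, 0, 1, 2], [3, 1, 2, 1, 0, 1, 2, 0], [3, 1, 2, 1, 0, 1, 2], [3, 1, 0, 1, 2, 0], [3, 1, 0, 1, 2], [3, 1, 0, 1, 2, 0, 1], [3, 1, 0, 1, 2, 0, 1, 0], [2, 0, 1, 2, 1, 0], [2, 0, 1, 2, 1], [1, 2, 0, 1, 2, 1, 0], [1, 2, 0, 1, 2, 1], [0, 1, 2, 1, 0], [0, 1, 2, 1], [0, 1, 2, 1, 0, 1], [0, 1, 2, 1, 0, 1, 0], [3, 2, 0, 1, 2, 1, 0], [3, 2, 0, 1, 2, 1], [3, 1, 2,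 0, 1, 2, 1, 0], [3, 1, 2, 0, 1, 2, 1], [3, 0, 1, 2, 1, 0], [3, 0, 1, 2, 1], [3, 0, 1, 2, 1, 0, 1], [3, 0, 1, 2, 1, 0, 1, 0], [1, 2, 0, 1, 2, 0], [1, 2, 0, 1, 2], [2, 0, 1, 2, 0], [2, 0, 1, 2], [0, 1, 2, 0, 1], [0, 1, 2, 0, 1, 0], [0, 1, 2, 0], [0, 1, 2], [3, 1, 2, 0, 1, 2, 0], [3, 1, 2, 0, 1, 2], [3, 2, 0, 1, 2, 0], [3, 2, 0, 1, 2], [3, 0, 1, 2, 0, 1], [3, 0, 1, 2, 0, 1, 0], [3, 0, 1, 2, 0], [3, 0, 1, 2], [3, 2, 3, 1, 0, 1, 2, 1, 0, 1], [3, 2, 3, 1, 0, 1, 2, 1, 0, 1, 0], [3, 2, 3, 1, 0, 1, 2, 1, 0], [3, 2, 3, 1, 0, 1, 2, 1], [3, 1, 0, 1, 2, 3, 1, 0, 1], [3, 1, 0, 1, 2, 3, 1, 0, 1, 0], [3, 1, 0, 1, 2, 3, 1, 0], [3, 1, 0, 1, 2, 3, 1], [2, 3, 1, 0, 1, 2, 1, 0, 1], [2, 3, 1, 0, 1, 2, 1, 0, 1, 0], [2, 3, 1, 0, 1, 2, 1, 0], [2, 3, 1, 0, 1, 2, 1], [1, 0, 1, 2, 3, 1, 0, 1], [1, 0,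 1, 2, 3, 1, 0, 1, 0], [1, 0, 1, 2, 3, 1, 0], [1, 0, 1, 2, 3, 1], [3, 2, 3, 1, 0, 1, 2, 0], [3, 2, 3, 1, 0, 1, 2], [3, 2, 3, 1, 0, 1, 2, 0, 1], [3, 2, 3, 1, 0, 1, 2, 0, 1, 0], [3, 1, 0, 1, 2, 3, 0], [3, 1, 0, 1, 2, 3], [3, 1, 0, 1, 2, 3, 0, 1], [3, 1, 0, 1, 2, 3, 0, 1, 0], [2, 3, 1, 0, 1, 2, 0], [2, 3, 1, 0, 1, 2], [2, 3, 1, 0, 1, 2, 0, 1], [2, 3, 1, 0, 1, 2, 0, 1, 0], [1, 0, 1, 2, 3, 0], [1, 0, 1, 2, 3], [1, 0, 1, 2, 3, 0, 1], [1, 0, 1, 2, 3, 0, 1, 0], [3, 2, 3, 0, 1, 2, 1, 0], [3, 2, 3, 0, 1, 2, 1], [1, 2, 3, 0, 1, 2, 3, 1, 0], [1, 2, 3, 0, 1, 2, 3, 1], [3, 2, 3, 2, 0, 1, 2, 1, 0], [3, 2, 3, 2, 0, 1, 2, 1], [3, 2, 3, 1, 2, 0, 1, 2, 1, 0], [3, 2, 3, 1, 2, 0, 1, 2, 1], [2, 3, 0, 1, 2, 1, 0], [2, 3, 0, 1, 2, 1], [1, 0, 1, 2, 3, 1, 2, 0], [1, 0, 1, 2, 3, 1, 2], [2, 3, 2, 0,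 1, 2, 1, 0], [2, 3, 2, 0, 1, 2, 1], [2, 3, 1, 2, 0, 1, 2, 1, 0], [2, 3, 1, 2, 0, 1, 2, 1], [1, 2, 3, 0, 1, 2, 3, 0], [1, 2, 3, 0, 1, 2, 3], [3, 2, 3, 0, 1, 2, 0], [3, 2, 3, 0, 1, 2], [3, 2, 3, 1, 2, 0, 1, 2, 0], [3, 2, 3, 1, 2, 0, 1, 2], [3, 2, 3, 2, 0, 1, 2, 0], [3, 2, 3, 2, 0, 1, 2], [2, 3, 0, 1, 2, 0, 1], [2, 3, 0, 1, 2, 0, 1, 0], [2, 3, 0, 1, 2, 0], [2, 3, 0, 1, 2], [2, 3, 1, 2, 0, 1, 2, 0], [2, 3, 1, 2, 0, 1, 2], [2, 3, 2, 0, 1, 2, 0], [2, 3, 2, 0, 1, 2], [2, 3, 2, 1, 2, 3, 2, 1], [2, 3, 2, 1, 2, 3, 2, 1, 0], [2, 3, 2, 1, 2, 3, 2], [2, 3, 2, 1, 2, 3, 2, 0], [3, 2, 1, 2, 3, 2, 1], [3, 2, 1, 2, 3, 2, 1, 0], [3, 2, 1, 2, 3, 2], [3, 2, 1, 2, 3, 2, 0], [2, 1, 2, 3, 2, 1, 2], [2, 1, 2, 3, 2, 1, 2, 0], [2, 1, 2, 3, 2, 1, 2, 1], [2, 1, 2, 3, 2, 1, 2, 1, 0], [2, 1, 2, 3, 2, 1],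 [2, 1, 2, 3, 2, 1, 0], [2, 1, 2, 3, 2], [2, 1, 2, 3, 2, 0], [2, 3, 2, 1, 2, 3, 2, 0, 1, 0], [2, 3, 2, 1, 2, 3, 2, 0, 1], [2, 3, 2, 0, 1, 2, 3, 2, 0], [2, 3, 2, 0, 1, 2, 3, 2], [3, 2, 1, 2, 3, 2, 0, 1, 0], [3, 2, 1, 2, 3, 2, 0, 1], [3, 2, 0, 1, 2, 3, 2, 0], [3, 2, 0, 1, 2, 3, 2], [2, 1, 2, 3, 2, 1, 2, 1, 0, 1, 0], [2, 1, 2, 3, 2, 1, 2, 1, 0, 1], [2, 1, 2, 3, 2, 1, 2, 0, 1, 0], [2, 1, 2, 3, 2, 1, 2, 0, 1], [2, 1, 2, 3, 2, 0, 1, 0], [2, 1, 2, 3, 2, 0, 1], [2, 0, 1, 2, 3, 2, 0], [2, 0, 1, 2, 3, 2], [3, 2, 1, 2, 3, 1], [3, 2, 1, 2, 3, 1, 0], [3, 2, 1, 2, 3], [3, 2, 1, 2, 3, 0], [2, 3, 2, 1, 2, 3, 1], [2, 3, 2, 1, 2, 3, 1, 0], [2, 3, 2, 1, 2, 3], [2, 3, 2, 1, 2, 3, 0], [2, 1, 2, 3, 1], [2, 1, 2, 3, 1, 0], [2, 1, 2, 3], [2, 1, 2, 3, 0], [2, 1, 2, 3, 1, 2], [2, 1, 2, 3, 1, 2, 0],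 [2, 1, 2, 3, 1, 2, 1], [2, 1, 2, 3, 1, 2, 1, 0], [3, 2, 1, 2, 3, 0, 1, 0], [3, 2, 1, 2, 3, 0, 1], [3, 2, 1, 2, 3, 1, 0, 1, 0], [3, 2, 1, 2, 3, 1, 0, 1], [2, 3, 2, 1, 2, 3, 0, 1, 0], [2, 3, 2, 1, 2, 3, 0, 1], [2, 3, 2, 1, 2, 3, 1, 0, 1, 0], [2, 3, 2, 1, 2, 3, 1, 0, 1], [2, 1, 2, 3, 0, 1, 0], [2, 1, 2, 3, 0, 1], [2, 1, 2, 3, 1, 0, 1, 0], [2, 1, 2, 3, 1, 0, 1], [1, 2, 0, 1, 2, 3, 2, 0], [1, 2, 0, 1, 2, 3, 2], [2, 1, 2, 3, 1, 2, 0, 1, 0], [2, 1, 2, 3, 1, 2, 0, 1], [3, 1, 2, 3, 2, 1], [3, 1, 2, 3, 2, 1, 0], [3, 1, 2, 3, 2], [3, 1, 2, 3, 2, 0], [2, 3, 1, 2, 3, 2, 1], [2, 3, 1, 2, 3, 2, 1, 0], [2, 3, 1, 2, 3, 2], [2, 3, 1, 2, 3, 2, 0], [1, 2, 3, 2, 1], [1, 2, 3, 2, 1, 0], [1, 2, 3, 2], [1, 2, 3, 2, 0], [1, 2, 3, 2, 1, 2], [1, 2, 3, 2, 1, 2, 0], [1, 2, 3, 2, 1, 2, 1], [1, 2, 3, 2,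 1, 2, 1, 0], [3, 1, 2, 3, 2, 0, 1, 0], [3, 1, 2, 3, 2, 0, 1], [3, 0, 1, 2, 3, 2, 0], [3, 0, 1, 2, 3, 2], [2, 3, 1, 2, 3, 2, 0, 1, 0], [2, 3, 1, 2, 3, 2, 0, 1], [2, 3, 0, 1, 2, 3, 2, 0], [2, 3, 0, 1, 2, 3, 2], [1, 2, 3, 2, 0, 1, 0], [1, 2, 3, 2, 0, 1], [0, 1, 2, 3, 2, 0], [0, 1, 2, 3, 2], [1, 2, 3, 2, 1, 2, 1, 0, 1, 0], [1, 2, 3, 2, 1, 2, 1, 0, 1], [1, 2, 3, 2, 1, 2, 0, 1, 0], [1, 2, 3, 2, 1, 2, 0, 1], [2, 3, 1, 2, 3, 1], [2, 3, 1, 2, 3, 1, 0], [2, 3, 1, 2, 3], [2, 3, 1, 2, 3, 0], [3, 1, 2, 3, 1], [3, 1, 2, 3, 1, 0], [3, 1, 2, 3], [3, 1, 2, 3, 0], [1, 2, 3, 1, 2], [1, 2, 3, 1, 2, 0], [1, 2, 3, 1, 2, 1], [1, 2, 3, 1, 2, 1, 0], [1, 2, 3, 1], [1, 2, 3, 1, 0], [1, 2, 3], [1, 2, 3, 0], [2, 3, 1, 2, 3, 0, 1, 0], [2, 3, 1, 2, 3, 0, 1], [2, 3, 1, 2, 3, 1, 0, 1, 0], [2, 3, 1, 2, 3,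 1, 0, 1], [3, 1, 2, 3, 0, 1, 0], [3, 1, 2, 3, 0, 1], [3, 1, 2, 3, 1, 0, 1, 0], [3, 1, 2, 3, 1, 0, 1], [0, 1, 2, 3, 0, 1, 2], [0, 1, 2, 3, 0, 1, 2, 0], [1, 2, 3, 1, 2, 0, 1, 0], [1, 2, 3, 1, 2, 0, 1], [1, 2, 3, 0, 1, 0], [1, 2, 3, 0, 1], [1, 2, 3, 1, 0, 1, 0], [1, 2, 3, 1, 0, 1], [2, 3, 2, 1, 2, 3, 1, 0, 1, 2, 1, 0], [2, 3, 2, 1, 2, 3, 1, 0, 1, 2, 1], [3, 2, 1, 2, 3, 2, 0, 1, 2, 1, 0], [3, 2, 1, 2, 3, 2, 0, 1, 2, 1], [3, 2, 1, 2, 3, 1, 0, 1, 2, 1, 0], [3, 2, 1, 2, 3, 1, 0, 1, 2, 1], [1, 2, 3, 2, 0, 1, 2, 3, 1, 0], [1, 2, 3, 2, 0, 1, 2, 3, 1], [2, 1, 2, 3, 1, 2, 0, 1, 2, 1, 0], [2, 1, 2, 3, 1, 2, 0, 1, 2, 1], [2, 1, 2, 3, 2, 0, 1, 2, 1, 0], [2, 1, 2, 3, 2, 0, 1, 2, 1], [2, 1, 2, 3, 1, 0, 1, 2, 1, 0], [2, 1, 2, 3, 1, 0, 1, 2, 1], [1, 2, 0, 1, 2, 3, 1, 2, 0], [1, 2, 0, 1, 2,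 3, 1, 2], [3, 2, 1, 2, 3, 2, 0, 1, 2, 0], [3, 2, 1, 2, 3, 2, 0, 1, 2], [2, 3, 2, 1, 2, 3, 1, 0, 1, 2, 0], [2, 3, 2, 1, 2, 3, 1, 0, 1, 2], [1, 2, 3, 2, 0, 1, 2, 3, 0], [1, 2, 3, 2, 0, 1, 2, 3], [3, 2, 1, 2, 3, 1, 0, 1, 2, 0], [3, 2, 1, 2, 3, 1, 0, 1, 2], [2, 1, 2, 3, 2, 0, 1, 2, 0], [2, 1, 2, 3, 2, 0, 1, 2], [2, 1, 2, 3, 1, 2, 0, 1, 2, 0], [2, 1, 2, 3, 1, 2, 0, 1, 2], [1, 2, 0, 1, 2, 3, 1, 2, 1, 0], [1, 2, 0, 1, 2, 3, 1, 2, 1], [2, 1, 2, 3, 1, 0, 1, 2, 0], [2, 1, 2, 3, 1, 0, 1, 2], [3, 2, 0, 1, 2, 3, 1, 0], [3, 2, 0, 1, 2, 3, 1], [3, 1, 2, 0, 1, 2, 3, 1, 0], [3, 1, 2, 0, 1, 2, 3, 1], [2, 3, 2, 0, 1, 2, 3, 1, 0], [2, 3, 2, 0, 1, 2, 3, 1], [3, 2, 1, 2, 3, 0, 1, 2, 1, 0], [3, 2, 1, 2, 3, 0, 1, 2, 1], [2, 0, 1, 2, 3, 1, 0], [2, 0, 1, 2, 3, 1], [1, 2, 0, 1, 2, 3, 1, 0], [1, 2,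 0, 1, 2, 3, 1], [2, 0, 1, 2, 3, 1, 2, 0], [2, 0, 1, 2, 3, 1, 2], [2, 1, 2, 3, 0, 1, 2, 1, 0], [2, 1, 2, 3, 0, 1, 2, 1], [3, 1, 2, 0, 1, 2, 3, 0], [3, 1, 2, 0, 1, 2, 3], [3, 2, 0, 1, 2, 3, 0], [3, 2, 0, 1, 2, 3], [3, 2, 1, 2, 3, 0, 1, 2, 0], [3, 2, 1, 2, 3, 0, 1, 2], [2, 3, 2, 0, 1, 2, 3, 0], [2, 3, 2, 0, 1, 2, 3], [1, 2, 0, 1, 2, 3, 0], [1, 2, 0, 1, 2, 3], [2, 0, 1, 2, 3, 0], [2, 0, 1, 2, 3], [2, 1, 2, 3, 0, 1, 2, 0], [2, 1, 2, 3, 0, 1, 2], [2, 0, 1, 2, 3, 1, 2, 1, 0], [2, 0, 1, 2, 3, 1, 2, 1], [3, 1, 2, 3, 1, 0, 1, 2, 1, 0], [3, 1, 2, 3, 1, 0, 1, 2, 1], [3, 0, 1, 2, 3, 1, 0, 1, 2], [3, 0, 1, 2, 3, 1, 0, 1, 2, 0], [2, 3, 1, 2, 3, 1, 0, 1, 2, 1, 0], [2, 3, 1, 2, 3, 1, 0, 1, 2, 1], [3, 1, 2, 3, 2, 0, 1, 2, 1, 0], [3, 1, 2, 3, 2, 0, 1, 2, 1], [1, 2, 3, 1, 0, 1, 2, 1, 0], [1,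 2, 3, 1, 0, 1, 2, 1], [0, 1, 2, 3, 1, 0, 1, 2], [0, 1, 2, 3, 1, 0, 1, 2, 0], [1, 2, 3, 1, 2, 0, 1, 2, 1, 0], [1, 2, 3, 1, 2, 0, 1, 2, 1], [1, 2, 3, 2, 0, 1, 2, 1, 0], [1, 2, 3, 2, 0, 1, 2, 1], [2, 3, 1, 2, 3, 2, 0, 1, 2, 0], [2, 3, 1, 2, 3, 2, 0, 1, 2], [3, 1, 2, 3, 1, 0, 1, 2, 0], [3, 1, 2, 3, 1, 0, 1, 2], [3, 1, 2, 3, 2, 0, 1, 2, 0], [3, 1, 2, 3, 2, 0, 1, 2], [2, 3, 1, 2, 3, 1, 0, 1, 2, 0], [2, 3, 1, 2, 3, 1, 0, 1, 2], [1, 2, 3, 1, 0, 1, 2, 0, 1], [1, 2, 3, 1, 0, 1, 2, 0, 1, 0], [1, 2, 3, 1, 0, 1, 2, 0], [1, 2, 3, 1, 0, 1, 2], [1, 2, 3, 2, 0, 1, 2, 0], [1, 2, 3, 2, 0, 1, 2], [1, 2, 3, 1, 2, 0, 1, 2, 0], [1, 2, 3, 1, 2, 0, 1, 2], [2, 3, 0, 1, 2, 3, 1, 0], [2, 3, 0, 1, 2, 3, 1], [3, 1, 2, 3, 0, 1, 2, 1, 0], [3, 1, 2, 3, 0, 1, 2, 1], [3, 0, 1, 2, 3, 1, 0], [3, 0, 1, 2, 3,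 1], [3, 0, 1, 2, 3, 1, 0, 1], [3, 0, 1, 2, 3, 1, 0, 1, 0], [0, 1, 2, 3, 1, 2, 0], [0, 1, 2, 3, 1, 2], [1, 2, 3, 0, 1, 2, 1, 0], [1, 2, 3, 0, 1, 2, 1], [0, 1, 2, 3, 1, 0], [0, 1, 2, 3, 1], [0, 1, 2, 3, 1, 0, 1], [0, 1, 2, 3, 1, 0, 1, 0], [3, 1, 2, 3, 0, 1, 2, 0], [3, 1, 2, 3, 0, 1, 2], [2, 3, 0, 1, 2, 3, 0], [2, 3, 0, 1, 2, 3], [3, 0, 1, 2, 3, 0, 1], [3, 0, 1, 2, 3, 0, 1, 0], [3, 0, 1, 2, 3, 0], [3, 0, 1, 2, 3], [1, 2, 3, 0, 1, 2, 0], [1, 2, 3, 0, 1, 2], [0, 1, 2, 3, 1, 2, 1, 0], [0, 1, 2, 3, 1, 2, 1], [0, 1, 2, 3, 0, 1], [0, 1, 2, 3, 0, 1, 0], [0, 1, 2, 3, 0], [0, 1, 2, 3]]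

/-- The superdiagonal generators. -/
def basisQ (i : Fin 4) : Q9 := ofNat9 (2 ^ i.val)

theorem words_spec : ∀ x : Q9, ((words.getD (toNat9 x) []).map basisQ).prod = x := by decide +kernel

/-- The superdiagonal of an element. -/
def lead (x : Q9) (i : Fin 4) : ZMod 2 := ((x.val.val % 16) / 2 ^ i.val : ℕ)

theorem low_mul (x y : Q9) : (x * y).val.val % 16 = (x.val.val % 16) ^^^ (y.val.val % 16) := by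
  rw [val_mul, show (16 : ℕ) = 2 ^ 4 by norm_num]
  refine Nat.eq_of_testBit_eq fun i => ?_
  simp only [Nat.testBit_xor, Nat.testBit_mod_two_pow]
  by_cases h : i < 4
  · simp [qm, Nat.testBit_xor, Nat.testBit_shiftLeft, h, show ¬ 4 ≤ i by omega, show ¬ 7 ≤ i by omega]
  · simp [h]

theorem low_add : ∀ u v : Fin 16, ∀ i : Fin 4, ((((u.val ^^^ v.val) / 2 ^ i.val : ℕ)) : ZMod 2) =
    (((u.val / 2 ^ i.val : ℕ)) : ZMod 2) + (((v.val / 2 ^ i.val : ℕ)) : ZMod 2) := by decide +kernel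

theorem lead_mul (x y : Q9) (i : Fin 4) : lead (x * y) i = lead x i + lead y i := by
  rw [lead, low_mul]
  exact low_add ⟨_, Nat.mod_lt _ (by norm_num)⟩ ⟨_, Nat.mod_lt _ (by norm_num)⟩ i

theorem lead_basis : ∀ i j : Fin 4, lead (basisQ j) i = if i = j then 1 else 0 := by decide +kernel

/-- Generators of the maximal subgroups. -/
def maxGens : List (List ℕ) := [[6, 14, 22, 12], [12, 13, 28, 41, 44], [7, 15, 23, 3], [3, 11, 35, 41, 67], [7, 15, 23, 13], [6, 7, 14], [6, 14, 22, 3], [6, 7, 70, 3], [6, 15, 22, 11], [14, 15, 46, 11], [7, 14, 23, 3], [14, 15, 46, 3], [7, 14, 23, 11], [6, 7, 70, 11], [6, 15, 22, 3]]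

/-- Membership in the hyperplane with the given normal vector. -/
def inHyp (c : Fin 4 → ZMod 2) (x : Q9) : Bool :=
  c 0 * lead x 0 + c 1 * lead x 1 + c 2 * lead x 2 + c 3 * lead x 3 == 0

/-- The index of a normal vector. -/
def vecIdx (c : Fin 4 → ZMod 2) : ℕ := (c 0).val + 2 * (c 1).val + 4 * (c 2).val + 8 * (c 3).val - 1

theorem maxGens_mem : ∀ c : Fin 4 → ZMod 2, c ≠ 0 →
    (maxGens.getD (vecIdx c) []).all (fun y => inHyp c (ofNat9 y)) = true := by decide +kernel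

theorem maxGens_centre : ∀ c : Fin 4 → ZMod 2, c ≠ 0 →
    ((List.range 512).filter fun n => inHyp c (ofNat9 n) &&
      (maxGens.getD (vecIdx c) []).all fun y => ofNat9 y * ofNat9 n == ofNat9 n * ofNat9 y).length ≤ 8 := by
  decide +kernel

/-- The image in the quotient by the abelian subgroup of order 64. -/
def proj (x : Q9) : ℕ := x.val.val &&& 38

/-- Its possible values. -/
def projVals : Finset ℕ := {0, 2, 4, 6, 32, 34, 36, 38}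

theorem proj_mem : ∀ x : Q9, proj x ∈ projVals := by decide +kernel

theorem proj_mul (x y : Q9) : proj (x * y) = qm (proj x) (proj y) &&& 38 := by
  rw [proj, proj, proj, val_mul]
  refine Nat.eq_of_testBit_eq fun i => ?_
  have h38 : ∀ j, (38 : ℕ).testBit j = (decide (j = 1) || decide (j = 2) || decide (j = 5)) := by
    intro j
    by_cases h : j < 6
    · interval_cases j <;> decide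
    · rw [Nat.testBit_lt_two_pow (lt_of_lt_of_le (show (38 : ℕ) < 2 ^ 6 by norm_num)
        (Nat.pow_le_pow_right (by norm_num) (not_lt.1 h)))]
      simp [show j ≠ 1 by omega, show j ≠ 2 by omega, show j ≠ 5 by omega]
  by_cases h : i = 1 ∨ i = 2 ∨ i = 5
  · rcases h with rfl | rfl | rfl <;>
      simp [qm, h38, Nat.testBit_and, Nat.testBit_xor, Nat.testBit_shiftRight, Nat.testBit_shiftLeft, testBit_three, testBit_seven]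
  · simp only [not_or] at h
    simp [Nat.testBit_and, h38, h.1, h.2.1, h.2.2]

/-- The elements of the abelian subgroup of order 64. -/
def flat : List Q9 := ((List.range 512).map ofNat9).filter fun x => proj x == 0

theorem flat_len : flat.length = 64 := by decide +kernel

theorem flat_nodup : flat.Nodup := by decide +kernel

theorem flat_mem : ∀ x : Q9, proj x = 0 → x ∈ flat := by decide +kernel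

theorem flat_sq : flat.all (fun x => x * x == 1) = true := by decide +kernel

/-- Representatives of the cosets. -/
def repOf (v : ℕ) : Q9 := ofNat9 v

theorem proj_repOf : ∀ x : Q9, proj (repOf (proj x)) = proj x := by decide +kernel

theorem flat_pair : ∀ v ∈ projVals, ∀ w ∈ projVals, v ≠ 0 → w ≠ 0 → v ≠ w →
    (flat.filter fun x => (x * repOf v == repOf v * x) && (x * repOf w == repOf w * x)).length ≤ 8 := by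
  decide +kernel

theorem flat_single : ∀ v ∈ projVals, v ≠ 0 →
    (flat.filter fun x => x * repOf v == repOf v * x).length ≤ 16 := by
  decide +kernel

end Cfsg.Lib.FusionCert.SylowM24
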